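import Groth.Agent.Lib.CMReg18.GG
import Groth.Agent.Lib.CMReg18.Vanish
import Groth.Agent.Lib.CurveCoh17.Vanish
import Groth.Agent.Lib.CurveCoh17.TensorExact
import Groth.Agent.Lib.CohFound.ModQuot
import Groth.Agent.Lib.CohFound.ProjQuot
import Groth.Agent.Lib.TensorMod.QCohTensor
import Groth.Agent.Lib.TensorMod.Invertible
import Groth.Agent.Lib.KFlat.FinLocFree

/-!
# Global generation and `H¹` on schemes of dimension at most one
-/

set_option autoImplicit false
set_option linter.style.haveILetI false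
set_option backward.isDefEq.respectTransparency false
universe u

open CategoryTheory CategoryTheory.Limits AlgebraicGeometry TopologicalSpace Opposite

namespace Groth.Agent.DefAmp1

open Groth.Agent Groth.Agent.CurveCoh17 Groth.Agent.CMReg18

section

variable (k : Type u) [CommRing k] {X : Scheme.{u}} [X.Over (Spec (CommRingCat.of k))]

include k

/-- `H¹` is right exact. -/
theorem van_of_epi [AlgebraicGeometry.IsNoetherian X] [X.IsSeparated] (hd : topologicalKrullDim X ≤ 1) {M N : X.Modules} (hM : Coh.IsQCoh M) (hN : Coh.IsQCoh N) (φ : M ⟶ N) [Epi φ]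
    (h : Subsingleton (Coh.HH X M 1)) : Subsingleton (Coh.HH X N 1) := by
  let S : ShortComplex X.Modules := ShortComplex.mk (kernel.ι φ) φ (kernel.condition φ)
  have hS : S.ShortExact := { exact := ShortComplex.exact_kernel φ }
  haveI : Subsingleton (Coh.HH X S.X₁ 2) :=
    subsingleton_HH_of_dim hd _ (M1.isQCoh_kernel hM hN φ) 0
  refine subsingleton_of_forall_eq 0 fun y => ?_
  obtain ⟨x, hx⟩ := (exact_hmap_hdelta k hS 1 y).1 (Subsingleton.elim _ _)
  rw [← hx, Subsingleton.elim (α := Coh.HH X M 1) x 0, map_zero]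

/-- The middle term of a short exact sequence. -/
theorem van_mid {S : ShortComplex X.Modules} (hS : S.ShortExact)
    (h₁ : Subsingleton (Coh.HH X S.X₁ 1)) (h₃ : Subsingleton (Coh.HH X S.X₃ 1)) :
    Subsingleton (Coh.HH X S.X₂ 1) := by
  refine subsingleton_of_forall_eq 0 fun y => ?_
  obtain ⟨x, hx⟩ := (exact_hmap_hmap k hS 1 y).1 (Subsingleton.elim _ _)
  rw [← hx, Subsingleton.elim (α := Coh.HH X S.X₁ 1) x 0, map_zero]

/-- Sections lift along the quotient map when the kernel has no `H¹`. -/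
theorem surjective_sections {S : ShortComplex X.Modules} (hS : S.ShortExact)
    (h₁ : Subsingleton (Coh.HH X S.X₁ 1)) : Function.Surjective (S.g.app ⊤) := by
  intro t
  obtain ⟨x, hx⟩ := (exact_hmap_hdelta k hS 0 ((hh0 S.X₃).symm t)).1 (Subsingleton.elim _ _)
  refine ⟨hh0 S.X₂ x, ?_⟩
  rw [← hh0_hmap k S.g x, hx, AddEquiv.apply_symm_apply]

theorem van_free_tensor {W : X.Modules} (h : Subsingleton (Coh.HH X W 1)) (n : ℕ) :
    Subsingleton (Coh.HH X (CohB1.tensorMod (FlatMod.freeMod X n) W) 1) := by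
  classical
  let R := M2.tensorR W
  let ι₀ : ∀ i : Fin n, Coh.structureModule X ⟶ FlatMod.freeMod X n :=
    Sigma.ι (fun _ : Fin n => Coh.structureModule X)
  let π₀ : ∀ i : Fin n, FlatMod.freeMod X n ⟶ Coh.structureModule X := fun i =>
    Sigma.desc fun i' => if i' = i then 𝟙 _ else 0
  have hsum : ∑ i, π₀ i ≫ ι₀ i = 𝟙 (FlatMod.freeMod X n) := Sigma.hom_ext _ _ fun i => by
    rw [Preadditive.comp_sum, Finset.sum_eq_single i]
    · simp [ι₀, π₀]
    · intro b _ hb
      simp [π₀, Ne.symm hb]
    · simp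
  have h' : Subsingleton (Coh.HH X (R.obj (Coh.structureModule X)) 1) :=
    CMReg18.van_iso k (M2.tensorLUnit W).symm h
  refine subsingleton_of_forall_eq 0 fun x => ?_
  have key : ∀ (J : Finset (Fin n)), CurveCoh17.hmap k (R.map (∑ i ∈ J, π₀ i ≫ ι₀ i)) 1 x = 0 := fun J => by
    induction J using Finset.induction_on with
    | empty => rw [Finset.sum_empty, Functor.map_zero, CurveCoh17.hmap_zero]
    | insert a J ha ih =>
      rw [Finset.sum_insert ha, Functor.map_add, CMReg18.hmap_add, ih, add_zero, Functor.map_comp,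
        CurveCoh17.hmap_comp, Subsingleton.elim (α := Coh.HH X (R.obj (Coh.structureModule X)) 1)
          (CurveCoh17.hmap k (R.map (π₀ a)) 1 x) 0, map_zero]
  have := key Finset.univ
  rwa [hsum, R.map_id, CurveCoh17.hmap_id] at this

/-- A globally generated coherent module tensored with a module without `H¹` has no `H¹`. -/
theorem van_tensor_of_gg [AlgebraicGeometry.IsNoetherian X] [X.IsSeparated] (hd : topologicalKrullDim X ≤ 1) {E W : X.Modules} (hE : Coh.IsCoh E) (hgg : Curv2.IsGloballyGenerated E)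
    (hW : Coh.IsQCoh W) (h : Subsingleton (Coh.HH X W 1)) :
    Subsingleton (Coh.HH X (CohB1.tensorMod E W) 1) := by
  obtain ⟨n, p, hp⟩ := CohFound.exists_epi_freeMod hE hgg
  haveI : Epi (M2.tensorMap p (𝟙 W)) := CohFound.epi_tensorMap p W
  exact van_of_epi k hd
    (M2.isQCoh_tensor (CohFound.isCoh_of_isFinLocFree (Groth.Agent.KFlat.Sch.isFinLocFree_freeMod X n)).1 hW)
    (M2.isQCoh_tensor hE.1 hW) (M2.tensorMap p (𝟙 W)) (van_free_tensor k h n)

/-- A globally generated coherent module has no `H¹` if the structure sheaf has none. -/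
theorem van_of_gg [AlgebraicGeometry.IsNoetherian X] [X.IsSeparated] (hd : topologicalKrullDim X ≤ 1) {E : X.Modules} (hE : Coh.IsCoh E) (hgg : Curv2.IsGloballyGenerated E)
    (hO : Subsingleton (Coh.HH X (Coh.structureModule X) 1)) : Subsingleton (Coh.HH X E 1) :=
  CMReg18.van_iso k (M2.tensorRUnit E)
    (van_tensor_of_gg k hd hE hgg (M1.isCoh_structureModule X).1 hO)

/-- An extension of globally generated modules is globally generated if the kernel has no `H¹`. -/
theorem gg_of_shortExact {S : ShortComplex X.Modules} (hS : S.ShortExact)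
    (g₁ : Curv2.IsGloballyGenerated S.X₁) (g₃ : Curv2.IsGloballyGenerated S.X₃)
    (h₁ : Subsingleton (Coh.HH X S.X₁ 1)) : Curv2.IsGloballyGenerated S.X₂ := by
  haveI := hS.epi_g
  refine CMReg18.isGloballyGenerated_of_forall_kills fun N q hq => ?_
  have h0 : S.f ≫ q = 0 := CMReg18.eq_zero_of_kills g₁ fun t => hq (S.f.app ⊤ t)
  obtain ⟨q', hq'⟩ := CokernelCofork.IsColimit.desc' hS.gIsCokernel q h0
  replace hq' : S.g ≫ q' = q := hq'
  have h3 : q' = 0 := CMReg18.eq_zero_of_kills g₃ fun t => by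
    obtain ⟨s, rfl⟩ := surjective_sections k hS h₁ t
    have := hq s
    rw [← hq'] at this
    exact this
  rw [← hq', h3, comp_zero]

end

variable {X : Scheme.{u}}

theorem gg_of_epi {M N : X.Modules} (φ : M ⟶ N) [Epi φ] (h : Curv2.IsGloballyGenerated M) :
    Curv2.IsGloballyGenerated N := by
  obtain ⟨ι, p, hp⟩ := h
  haveI := hp
  exact ⟨ι, p ≫ φ, epi_comp p φ⟩

/-- Modules with finite support are globally generated. -/
theorem gg_of_suppIn {M : X.Modules} {S : Finset X} (h : SuppIn M S) : Curv2.IsGloballyGenerated M := by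
  classical
  refine CMReg18.isGloballyGenerated_of_forall_kills fun N q hq => ?_
  apply Scheme.Modules.hom_ext
  intro U
  refine AddCommGrpCat.hom_ext (AddMonoidHom.ext fun s => ?_)
  refine M1.section_ext _ _ fun x hx => ?_
  rw [← M1.germ_naturality]
  show (M1.stalkAb x).map q (M.presheaf.germ U x hx s) = N.presheaf.germ U x hx 0
  rw [map_zero]
  by_cases hxS : x ∈ S
  · obtain ⟨σ, hσ⟩ := h.exists_section ⊤ (Function.update (fun y => (0 : M.presheaf.stalk y)) x
      (M.presheaf.germ U x hx s))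
    have hv : M.presheaf.germ ⊤ x trivial σ = M.presheaf.germ U x hx s :=
      (hσ x hxS trivial).trans (Function.update_self x _ _)
    refine (congrArg ((M1.stalkAb x).map q) hv).symm.trans ?_
    rw [M1.germ_naturality, hq, map_zero]
  · rw [h.zero x hxS (M.presheaf.germ U x hx s)]
    exact map_zero _

theorem exists_finset_of_closed [AlgebraicGeometry.IsNoetherian X] {C : Set X} (hC : IsClosed C) (hp : ∀ x ∈ C, IsClosed ({x} : Set X)) :
    ∃ S : Finset X, ∀ x, x ∈ C → x ∈ S ∧ IsClosed ({x} : Set X) := by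
  obtain ⟨G, hG⟩ := VarDim.exists_finite_generic hC
  refine ⟨G, fun x hx => ⟨?_, hp x hx⟩⟩
  obtain ⟨g, hg, hgx⟩ := (hG x).1 hx
  have hgC : g ∈ C := (hG g).2 ⟨g, hg, specializes_rfl⟩
  have : x ∈ ({g} : Set X) := hgx.mem_closed (hp g hgC) rfl
  exact Set.mem_singleton_iff.1 this ▸ hg

end Groth.Agent.DefAmp1
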