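import Groth.Agent.Lib.DefAmp1.Basic
import Groth.Agent.Lib.CurveCoh17.Degree
import Groth.Prelude.Def_DDual2

/-!
# Tensor products: right exactness, global generation
-/

set_option autoImplicit false
set_option linter.style.haveILetI false
set_option backward.isDefEq.respectTransparency false
universe u

open CategoryTheory CategoryTheory.Limits AlgebraicGeometry TopologicalSpace Opposite TensorProduct

namespace Groth.Agent.DefAmp1

open Groth.Agent Groth.Agent.M1 Groth.Agent.M2 Groth.Agent.CurveCoh17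

variable {X : Scheme.{u}}

/-- Tensoring is exact in the middle. -/
theorem exact_tensorR {S : ShortComplex X.Modules} (hS : S.ShortExact) (E : X.Modules) :
    (S.map (tensorR E)).Exact := by
  haveI := hS.epi_g
  have hsurj : ∀ x, Function.Surjective (stalkLin S.g x) := (epi_iff_stalk S.g).1 hS.epi_g
  rw [exact_iff_stalk_eq_zero]
  intro x b hb
  have hex : Function.Exact (stalkLin S.f x) (stalkLin S.g x) := by
    intro c
    refine ⟨fun hc => (exact_iff_stalk_eq_zero S).1 hS.exact x c hc, ?_⟩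
    rintro ⟨a, rfl⟩
    show ((stalkAb x).map S.f ≫ (stalkAb x).map S.g) a = 0
    rw [← Functor.map_comp, S.zero, Functor.map_zero]
    rfl
  have hex' := rTensor_exact (E.presheaf.stalk x) hex (hsurj x)
  have h0 : LinearMap.rTensor (E.presheaf.stalk x) (stalkLin S.g x) (stalkEquiv S.X₂ E x b) = 0 := by
    rw [← stalkEquiv_natural]
    exact (congrArg _ hb).trans (map_zero _)
  obtain ⟨c, hc⟩ := (hex' _).1 h0
  obtain ⟨a, rfl⟩ := (stalkEquiv S.X₁ E x).surjective c
  refine ⟨a, (stalkEquiv S.X₂ E x).injective ?_⟩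
  rw [← hc]
  exact stalkEquiv_natural S.f E x a

/-- The cokernel of a map surjective off a finite set stays so after tensoring. -/
theorem suppIn_cokernel_tensor {M N : X.Modules} (φ : M ⟶ N) (W : X.Modules) {S : Finset X}
    (hS : ∀ x ∈ S, IsClosed ({x} : Set X))
    (h : ∀ x : X, x ∉ S → Function.Surjective ((stalkAb x).map φ)) :
    SuppIn (cokernel (tensorMap φ (𝟙 W))) S := by
  refine ⟨hS, fun x hx a => ?_⟩
  obtain ⟨b, rfl⟩ := (epi_iff_stalk (cokernel.π (tensorMap φ (𝟙 W)))).1 inferInstance x a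
  obtain ⟨c, hc⟩ := LinearMap.rTensor_surjective (W.presheaf.stalk x)
    (show Function.Surjective (stalkLin φ x) from h x hx) (stalkEquiv N W x b)
  obtain ⟨d, rfl⟩ := (stalkEquiv M W x).surjective c
  obtain rfl : (stalkAb x).map (tensorMap φ (𝟙 W)) d = b :=
    (stalkEquiv N W x).injective ((stalkEquiv_natural φ W x d).trans hc)
  show ((stalkAb x).map (tensorMap φ (𝟙 W)) ≫ (stalkAb x).map (cokernel.π (tensorMap φ (𝟙 W)))) d = 0
  rw [← Functor.map_comp, cokernel.condition, Functor.map_zero]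
  rfl

theorem suppIn_cokernel {M N : X.Modules} (φ : M ⟶ N) {S : Finset X}
    (hS : ∀ x ∈ S, IsClosed ({x} : Set X))
    (h : ∀ x : X, x ∉ S → Function.Surjective ((stalkAb x).map φ)) : SuppIn (cokernel φ) S := by
  refine ⟨hS, fun x hx a => ?_⟩
  obtain ⟨b, rfl⟩ := (epi_iff_stalk (cokernel.π φ)).1 inferInstance x a
  obtain ⟨d, rfl⟩ := h x hx b
  show ((stalkAb x).map φ ≫ (stalkAb x).map (cokernel.π φ)) d = 0
  rw [← Functor.map_comp, cokernel.condition, Functor.map_zero]
  rfl

/-- A finite free module tensored with a globally generated one is globally generated. -/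
theorem gg_free_tensor {W : X.Modules} (h : Curv2.IsGloballyGenerated W) (n : ℕ) :
    Curv2.IsGloballyGenerated (CohB1.tensorMod (FlatMod.freeMod X n) W) := by
  classical
  let R := M2.tensorR W
  let ι₀ : ∀ i : Fin n, Coh.structureModule X ⟶ FlatMod.freeMod X n :=
    Sigma.ι (fun _ : Fin n => Coh.structureModule X)
  let π₀ : ∀ i : Fin n, FlatMod.freeMod X n ⟶ Coh.structureModule X := fun i =>
    Sigma.desc fun i' => if i' = i then 𝟙 _ else 0
  have hsum : ∑ i, π₀ i ≫ ι₀ i = 𝟙 (FlatMod.freeMod X n) := Sigma.hom_ext _ _ fun i => by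
    rw [Preadditive.comp_sum, Finset.sum_eq_single i]
    · simp [ι₀, π₀]
    · intro b _ hb
      simp [π₀, Ne.symm hb]
    · simp
  refine CMReg18.isGloballyGenerated_of_forall_kills fun N q hq => ?_
  have h1 : ∀ i, R.map (ι₀ i) ≫ q = 0 := fun i => by
    have h2 : (M2.tensorLUnit W).inv ≫ R.map (ι₀ i) ≫ q = 0 :=
      CMReg18.eq_zero_of_kills h fun t => hq _
    rwa [Iso.inv_comp_eq, comp_zero] at h2
  have h2 : R.map (∑ i, π₀ i ≫ ι₀ i) ≫ q = 0 := by
    rw [Functor.map_sum, Preadditive.sum_comp]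
    exact Finset.sum_eq_zero fun i _ => by rw [Functor.map_comp, Category.assoc, h1, comp_zero]
  rwa [hsum, R.map_id, Category.id_comp] at h2

theorem gg_tensor [AlgebraicGeometry.IsNoetherian X] {M N : X.Modules} (hM : Coh.IsCoh M)
    (gM : Curv2.IsGloballyGenerated M) (gN : Curv2.IsGloballyGenerated N) :
    Curv2.IsGloballyGenerated (CohB1.tensorMod M N) := by
  obtain ⟨n, p, hp⟩ := CohFound.exists_epi_freeMod hM gM
  haveI : Epi (M2.tensorMap p (𝟙 N)) := CohFound.epi_tensorMap p N
  exact gg_of_epi (M2.tensorMap p (𝟙 N)) (gg_free_tensor gN n)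

theorem setup (k : Type u) [Field k] [X.Over (Spec (CommRingCat.of k))]
    [IsProper (X ↘ Spec (CommRingCat.of k))] : AlgebraicGeometry.IsNoetherian X ∧ X.IsSeparated := by
  haveI : IsLocallyNoetherian X := LocallyOfFiniteType.isLocallyNoetherian (X ↘ Spec (CommRingCat.of k))
  haveI : CompactSpace X := QuasiCompact.compactSpace_of_compactSpace (X ↘ Spec (CommRingCat.of k))
  exact ⟨{}, ⟨by rw [← terminal.comp_from (X ↘ Spec (CommRingCat.of k))]; infer_instance⟩⟩

theorem isQCoh_dualizingMod {Y : Scheme.{u}} (f : X ⟶ Y) [DCoh.HasRpush f] (h : DCoh.RpushPreservesQCoh f)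
    [DCoh.HasShriek f h] (OY : DCoh.DQCoh Y) (n : ℕ) : Coh.IsQCoh (DCoh.dualizingMod f h OY n) :=
  ((DCoh.shriek f h).obj OY).property _

end Groth.Agent.DefAmp1
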